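import Groth.Agent.Lib.Modules.AffineSections
import Groth.Agent.Lib.DescAlg.FinProjDescent

/-!
# Projectivity of sections of quasi-coherent modules is affine local
-/

universe u

open CategoryTheory Limits AlgebraicGeometry Opposite TopologicalSpace TensorProduct
open Groth.Agent.Lib Groth.Agent.Lib.QCoh.Localizing

namespace Groth.Agent.H52.QCoh.ProjLocal

set_option linter.style.haveILetI false

theorem projective_trans {A B : Type u} [CommRing A] [CommRing B] [Algebra A B] [Module.Projective A B]
    (P : Type u) [AddCommGroup P] [Module A P] [Module B P] [IsScalarTower A B P] [Module.Projective B P] :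
    Module.Projective A P := by
  classical
  obtain ⟨s, hs⟩ := Module.projective_def'.1 (inferInstance : Module.Projective B P)
  haveI : Module.Projective A (P →₀ B) := Module.Projective.of_equiv (finsuppLequivDFinsupp A).symm
  exact Module.Projective.of_split (M := P →₀ B) (s.restrictScalars A)
    ((Finsupp.linearCombination B _root_.id).restrictScalars A) (LinearMap.ext fun x => congr($hs x))

/-- Projectivity descends along a finite jointly surjective flat family. -/
theorem projective_of_cover {A : Type u} [CommRing A] {n : ℕ} (S : Fin n → Type u)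
    [∀ j, CommRing (S j)] [∀ j, Algebra A (S j)] [∀ j, Module.Flat A (S j)]
    (hsurj : ∀ p : PrimeSpectrum A, ∃ j q, PrimeSpectrum.comap (algebraMap A (S j)) q = p)
    (N : Type u) [AddCommGroup N] [Module A N]
    (h : ∀ j, Module.Projective (S j) (S j ⊗[A] N)) : Module.Projective A N := by
  classical
  haveI : Module.Flat A (∀ j, S j) :=
    Module.Flat.of_linearEquiv (DFinsupp.linearEquivFunOnFintype (R := A) (M := S)).symm
  haveI : Module.FaithfullyFlat A (∀ j, S j) := by
    refine Module.FaithfullyFlat.of_comap_surjective (fun p => ?_)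
    obtain ⟨j, q, hq⟩ := hsurj p
    exact ⟨PrimeSpectrum.comap (Pi.evalRingHom S j) q, hq⟩
  letI : ∀ j, Algebra (∀ j, S j) (S j) := fun j => (Pi.evalRingHom S j).toAlgebra
  haveI : ∀ j, IsScalarTower A (∀ j, S j) (S j) := fun j =>
    IsScalarTower.of_algebraMap_eq fun a => rfl
  haveI : ∀ j, Module.Projective (∀ j, S j) (S j) := fun j => by
    refine Module.Projective.of_split (P := S j) (M := ∀ j, S j)
      { toFun := fun x => Pi.single j x
        map_add' := fun x y => Pi.single_add (f := S) j x y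
        map_smul' := fun b x => ?_ }
      { toFun := fun b => b j
        map_add' := fun _ _ => rfl
        map_smul' := fun b x => rfl } (LinearMap.ext fun x => Pi.single_eq_same j x)
    funext k
    rcases eq_or_ne k j with rfl | hk
    · simp [Algebra.smul_def, RingHom.algebraMap_toAlgebra]
    · simp [hk]
  let P := (∀ j, S j) ⊗[A] N
  haveI : ∀ j, Module.Projective (∀ j, S j) (S j ⊗[∀ j, S j] P) := fun j => by
    haveI := h j
    haveI : Module.Projective (S j) (S j ⊗[∀ j, S j] P) :=
      Module.Projective.of_equiv (AlgebraTensorModule.cancelBaseChange A (∀ j, S j) (S j) (S j) N).symm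
    exact projective_trans (A := ∀ j, S j) (B := S j) _
  haveI := DescAlg.FinProjDescent.projective_pi (B := ∀ j, S j) (fun j => S j ⊗[∀ j, S j] P)
  haveI : Module.Projective (∀ j, S j) P := Module.Projective.of_equiv (
    (TensorProduct.rid (∀ j, S j) P).symm ≪≫ₗ
      TensorProduct.congr (LinearEquiv.refl _ P)
        ({ toFun := id, invFun := id, left_inv := fun _ => rfl, right_inv := fun _ => rfl,
           map_add' := fun _ _ => rfl, map_smul' := fun _ _ => rfl } :
          (∀ j, S j) ≃ₗ[∀ j, S j] ∀ j, S j) ≪≫ₗ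
      TensorProduct.piRight (∀ j, S j) (∀ j, S j) P S ≪≫ₗ
      LinearEquiv.piCongrRight fun j => TensorProduct.comm (∀ j, S j) P (S j)).symm
  exact Pure.ProjDescent.projective_of_faithfullyFlat (∀ j, S j)

variable {X : Scheme.{u}} (M : X.Modules) [M.IsQuasicoherent]

theorem isBaseChange_basicOpen {U : X.Opens} (hU : IsAffineOpen U) (f : Γ(X, U)) :
    letI : Algebra Γ(X, U) Γ(X, X.basicOpen f) := (resR (X.basicOpen_le f)).toAlgebra
    Nonempty (Γ(X, X.basicOpen f) ⊗[Γ(X, U)] Γ(M, U) ≃ₗ[Γ(X, X.basicOpen f)] Γ(M, X.basicOpen f)) := by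
  let : Algebra Γ(X, U) Γ(X, X.basicOpen f) := (resR (X.basicOpen_le f)).toAlgebra
  let : Module Γ(X, U) Γ(M, X.basicOpen f) := Module.compHom _ (resR (X.basicOpen_le f))
  have : IsScalarTower Γ(X, U) Γ(X, X.basicOpen f) Γ(M, X.basicOpen f) :=
    IsScalarTower.of_algebraMap_smul fun _ _ ↦ rfl
  have := hU.isLocalization_basicOpen f
  let l : Γ(M, U) →ₗ[Γ(X, U)] Γ(M, X.basicOpen f) :=
    { toFun := res M (X.basicOpen_le f)
      map_add' := map_add _
      map_smul' := fun r m ↦ res_smul (X.basicOpen_le f) r m }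
  have : IsLocalizedModule (Submonoid.powers f) l := by
    refine ⟨fun s ↦ ?_, fun y ↦ ?_, fun {s t} h ↦ ?_⟩
    · rw [Module.End.isUnit_iff]
      exact (IsLocalization.map_units Γ(X, X.basicOpen f) s).smul_bijective
    · obtain ⟨n, t, ht⟩ := (localizes_of_isAffineOpen M hU f).ext' y
      refine ⟨⟨t, ⟨f ^ n, n, rfl⟩⟩, ?_⟩
      refine Eq.trans ?_ ht.symm
      change resR (X.basicOpen_le f) (f ^ n) • y = _
      rw [map_pow]
    · obtain ⟨n, hn⟩ := (localizes_of_isAffineOpen M hU f).sep.exists_pow_smul_eq h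
      exact ⟨⟨f ^ n, n, rfl⟩, hn⟩
  exact ⟨((isLocalizedModule_iff_isBaseChange (Submonoid.powers f) Γ(X, X.basicOpen f) l).1
    inferInstance).equiv⟩

theorem projective_basicOpen {U : X.Opens} (hU : IsAffineOpen U) (f : Γ(X, U))
    [Module.Projective Γ(X, U) Γ(M, U)] :
    Module.Projective Γ(X, X.basicOpen f) Γ(M, X.basicOpen f) := by
  letI : Algebra Γ(X, U) Γ(X, X.basicOpen f) := (resR (X.basicOpen_le f)).toAlgebra
  obtain ⟨e⟩ := isBaseChange_basicOpen M hU f
  exact Module.Projective.of_equiv e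

theorem projective_sections {I : Type u} (V : I → X.Opens) (hV : ⨆ i, V i = ⊤)
    (h : ∀ i, IsAffineOpen (V i) ∧ Module.Projective Γ(X, V i) Γ(M, V i))
    {U : X.Opens} (hU : IsAffineOpen U) : Module.Projective Γ(X, U) Γ(M, U) := by
  classical
  let s : Set Γ(X, U) := {f | Module.Projective Γ(X, X.basicOpen f) Γ(M, X.basicOpen f)}
  have hs : Ideal.span s = ⊤ := by
    refine (hU.iSup_basicOpen_eq_self_iff (s := s)).mp (le_antisymm
      (iSup_le fun f => X.basicOpen_le _) fun x hx => ?_)
    obtain ⟨i, hi⟩ := Opens.mem_iSup.1 (hV.ge (Opens.mem_top x))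
    obtain ⟨hVi, hp⟩ := h i
    obtain ⟨f, g, e, hxf⟩ := exists_basicOpen_le_affine_inter hU hVi x ⟨hx, hi⟩
    haveI := hp
    have hg := projective_basicOpen M hVi g
    rw [← e] at hg
    exact Opens.mem_iSup.2 ⟨⟨f, hg⟩, hxf⟩
  obtain ⟨t, hts, ht⟩ := (Ideal.span_eq_top_iff_finite s).1 hs
  let c : Fin t.card → Γ(X, U) := fun j => (t.equivFin.symm j : t)
  letI : ∀ j, Algebra Γ(X, U) Γ(X, X.basicOpen (c j)) := fun j => (resR (X.basicOpen_le (c j))).toAlgebra
  haveI : ∀ j, IsLocalization.Away (c j) Γ(X, X.basicOpen (c j)) := fun j => hU.isLocalization_basicOpen (c j)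
  haveI : ∀ j, Module.Flat Γ(X, U) Γ(X, X.basicOpen (c j)) := fun j =>
    IsLocalization.flat _ (Submonoid.powers (c j))
  refine projective_of_cover (fun j => Γ(X, X.basicOpen (c j))) (fun p => ?_) _ fun j => ?_
  · obtain ⟨g, hg, hgp⟩ : ∃ g ∈ t, g ∉ p.asIdeal := by
      by_contra hcon
      simp only [not_exists, not_and, not_not] at hcon
      exact p.isPrime.ne_top (top_le_iff.1 (ht ▸ Ideal.span_le.2 hcon))
    refine ⟨t.equivFin ⟨g, hg⟩, ?_⟩
    have hc : c (t.equivFin ⟨g, hg⟩) = g := by simp [c]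
    have hr : p ∈ Set.range (PrimeSpectrum.comap
        (algebraMap Γ(X, U) Γ(X, X.basicOpen (c (t.equivFin ⟨g, hg⟩))))) := by
      rw [PrimeSpectrum.localization_away_comap_range _ (c (t.equivFin ⟨g, hg⟩)), hc]
      exact hgp
    exact hr
  · obtain ⟨e⟩ := isBaseChange_basicOpen M hU (c j)
    haveI : Module.Projective Γ(X, X.basicOpen (c j)) Γ(M, X.basicOpen (c j)) := hts (t.equivFin.symm j).2
    exact Module.Projective.of_equiv e.symm

end Groth.Agent.H52.QCoh.ProjLocal
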